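import Groth.Agent.L25.RatConn
import Groth.Agent.L25.GrpBasics
import Groth.Prelude.Def_Red

/-!
# Connectedness of the fibres of a group scheme is stable under base change
-/

set_option autoImplicit false
universe u

open CategoryTheory CategoryTheory.Limits MonoidalCategory CartesianMonoidalCategory
open AlgebraicGeometry
open scoped MonObj

set_option backward.isDefEq.respectTransparency.types false

noncomputable section

namespace Groth.L25.Extension

/-- connected fibres of a group scheme stay connected after base change -/
theorem isConnected_fibre_bc {S T : Scheme.{u}} (f : T ⟶ S) (G : Over S) [GrpObj G]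
    (hconn : ∀ s : S, _root_.IsConnected (G.hom.base ⁻¹' {s})) (t : T) :
    _root_.IsConnected ((Red.bc f G).hom.base ⁻¹' {t}) := by
  let s := f t
  have : ConnectedSpace (G.hom.fiber s) :=
    have : ConnectedSpace (G.hom.base ⁻¹' {s}) := isConnected_iff_connectedSpace.1 (hconn s)
    (G.hom.fiberHomeo s).symm.surjective.connectedSpace (G.hom.fiberHomeo s).symm.continuous
  let σ : Spec (CommRingCat.of (S.residueField s)) ⟶ G.hom.fiber s :=
    pullback.lift (S.fromSpecResidueField s ≫ η[G].left) (𝟙 _) (by simp [GrpBasics.unit_comp_hom G])
  have := RatConn.geometricallyConnected_of_section (G.hom.fiberToSpecResidueField s) σ (pullback.lift_snd _ _ _)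
  have : ConnectedSpace ↥(pullback (G.hom.fiberToSpecResidueField s) (Spec.map (f.residueFieldMap t))) :=
    pullback_of_geometrically this.geometrically_connectedSpace (T.residueField t) (Spec.map (f.residueFieldMap t))
  let e : pullback (G.hom.fiberToSpecResidueField s) (Spec.map (f.residueFieldMap t)) ≅
      (Red.bc f G).hom.fiber t :=
    pullbackLeftPullbackSndIso G.hom (S.fromSpecResidueField s) (Spec.map (f.residueFieldMap t)) ≪≫
      pullback.congrHom rfl (Scheme.Hom.SpecMap_residueFieldMap_fromSpecResidueField f t) ≪≫
      (pullbackLeftPullbackSndIso G.hom f (T.fromSpecResidueField t)).symm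
  let a := e.hom.homeomorph.trans ((Red.bc f G).hom.fiberHomeo t)
  exact isConnected_iff_connectedSpace.2 (a.surjective.connectedSpace a.continuous)

end Groth.L25.Extension
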