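import Groth.Agent.L25.Extension.Pairing

/-!
# Commutation with preimages of central subgroups of multiplicative type
-/

set_option autoImplicit false
universe u

open CategoryTheory CategoryTheory.Limits MonoidalCategory CartesianMonoidalCategory
open AlgebraicGeometry
open scoped MonObj commutatorElement

set_option backward.isDefEq.respectTransparency.types false

noncomputable section

namespace Groth.L25.Extension

variable {S : Scheme.{u}}

/-- a family of commutators -/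
theorem exists_commFam {G P H : Over S} [GrpObj G] [GrpObj P] [GrpObj H] (ρ : P ⟶ G) (i : H ⟶ G)
    (hcomm : ∀ (X : Over S) (a : X ⟶ P) (g : X ⟶ G), ∃ h, h ≫ i = ⁅a ≫ ρ, g⁆) :
    ∃ φ : P ⊗ G ⟶ H, ∀ (X : Over S) (a : X ⟶ P) (g : X ⟶ G), (lift a g ≫ φ) ≫ i = ⁅a ≫ ρ, g⁆ := by
  obtain ⟨φ, hφ⟩ := hcomm _ (fst P G) (snd P G)
  exact ⟨φ, fun X a g => by
    rw [Category.assoc, hφ, Covers.comp_commutator, lift_fst_assoc, lift_snd]⟩

theorem comm_mul_left {α : Type*} [Group α] (a b g : α) :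
    ⁅a * b, g⁆ = a * ⁅b, g⁆ * a⁻¹ * ⁅a, g⁆ := by
  simp only [commutatorElement_def]; group

theorem comm_mul_right {α : Type*} [Group α] (a g g' : α) :
    ⁅a, g * g'⁆ = ⁅a, g⁆ * (g * ⁅a, g'⁆ * g⁻¹) := by
  simp only [commutatorElement_def]; group

/-- preimages of central subgroups of multiplicative type commute with a group with connected or
commuting fibres -/
theorem comm_eq {G P Q H : Over S} [GrpObj G] [GrpObj P] [GrpObj Q] [GrpObj H]
    (hQ : SGA3x.IsMultTypeFT Q) (hH : SGA3x.IsMultTypeFT H)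
    (ρ : P ⟶ G) [IsMonHom ρ] (i : H ⟶ G) [IsMonHom i] [Mono i] (π : P ⟶ Q) [IsMonHom π] (hπ : Covers.Cov π)
    (hcomm : ∀ (X : Over S) (a : X ⟶ P) (g : X ⟶ G), ∃ h, h ≫ i = ⁅a ≫ ρ, g⁆)
    (hcent : ∀ (X : Over S) (a : X ⟶ P) (h : X ⟶ H), (a ≫ ρ) * (h ≫ i) = (h ≫ i) * (a ≫ ρ))
    (hker : ∀ (X : Over S) (a : X ⟶ P) (g : X ⟶ G), a ≫ π = 1 → (a ≫ ρ) * g = g * (a ≫ ρ))
    (hs : ∀ s : S, (∀ (X : Over S) (a : X ⟶ P) (g : X ⟶ G) (w : X.left ⟶ Spec (S.residueField s)),
        w ≫ S.fromSpecResidueField s = X.hom → (a ≫ ρ) * g = g * (a ≫ ρ)) ∨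
      _root_.IsConnected (G.hom.base ⁻¹' {s}))
    (X : Over S) (a : X ⟶ P) (g : X ⟶ G) : (a ≫ ρ) * g = g * (a ≫ ρ) := by
  obtain ⟨φ, hφ⟩ := exists_commFam ρ i hcomm
  have hone : ∀ {Y : Over S} (b : Y ⟶ P) (t : Y ⟶ G),
      lift b t ≫ φ = 1 ↔ (b ≫ ρ) * t = t * (b ≫ ρ) := by
    intro Y b t
    rw [← cancel_mono i, hφ, MonObj.one_comp, commutatorElement_eq_one_iff_mul_comm]
  have hmul : HomSmooth.MulOn φ := fun Y t b b' => by
    rw [← cancel_mono i, hφ, MonObj.mul_comp, MonObj.mul_comp, hφ, hφ, comm_mul_left,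
      ← hφ Y b' t, hcent Y b _, mul_inv_cancel_right, ← hφ Y b t, ← MonObj.mul_comp _ _ i, ← MonObj.mul_comp _ _ i,
      Central.mul_comm_of_multTypeFT hH]
  obtain ⟨ψ, hψm, hψ⟩ := exists_desc hπ φ hmul fun Y b t hb => (hone b t).2 (hker Y b t hb)
  refine (hone a g).1 ?_
  rw [← hψ]
  refine famOne hQ hH ψ hψm (fun s => (hs s).imp (fun h Y q t w hw => ?_) fun h => ⟨h, η[G], fun Y q => ?_⟩) X _ g
  · obtain ⟨Y', c, b, hc, hb⟩ := exists_lift hπ q
    have := hc.epi
    rw [← cancel_epi c, comp_lift_assoc, MonObj.comp_one, ← hb, hψ, hone]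
    exact h Y' b _ (c.left ≫ w) (by rw [Category.assoc, hw, Over.w c])
  · obtain ⟨Y', c, b, hc, hb⟩ := exists_lift hπ q
    have := hc.epi
    rw [← cancel_epi c, comp_lift_assoc, MonObj.comp_one, ← hb, hψ, hone, ← Category.assoc,
      toUnit_unique (c ≫ toUnit Y) (toUnit Y'), ← Hom.one_def, _root_.mul_one, _root_.one_mul]

/-- normal subgroups of multiplicative type are central -/
theorem central_of_normal {G H : Over S} [GrpObj G] [GrpObj H] (hH : SGA3x.IsMultTypeFT H)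
    (i : H ⟶ G) [IsMonHom i] [Mono i] (hn : AlgGrp.IsNormalHom i)
    (hs : ∀ s : S, (∀ (X : Over S) (a : X ⟶ H) (g : X ⟶ G) (w : X.left ⟶ Spec (S.residueField s)),
        w ≫ S.fromSpecResidueField s = X.hom → (a ≫ i) * g = g * (a ≫ i)) ∨
      _root_.IsConnected (G.hom.base ⁻¹' {s}))
    (X : Over S) (a : X ⟶ H) (g : X ⟶ G) : (a ≫ i) * g = g * (a ≫ i) := by
  have : IsMonHom (𝟙 H) := inferInstance
  refine comm_eq hH hH i i (𝟙 H) (Covers.Cov.id H) (fun Y b t => ?_) (fun Y b h => ?_) (fun Y b t hb => ?_) hs X a g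
  · obtain ⟨n, hn'⟩ := hn Y t b⁻¹
    refine ⟨b * n, ?_⟩
    rw [MonObj.mul_comp, ← hn', GrpObj.inv_comp, commutatorElement_def]
    simp only [_root_.mul_assoc]
  · rw [← MonObj.mul_comp, ← MonObj.mul_comp, Central.mul_comm_of_multTypeFT hH]
  · rw [Category.comp_id] at hb
    rw [hb, MonObj.one_comp, _root_.one_mul, _root_.mul_one]

/-- kernels are normal -/
theorem IsExt.normal {E H K : Over S} [GrpObj E] [GrpObj K] [GrpObj H] {i : H ⟶ E} {π : E ⟶ K} [IsMonHom π]
    (h : IsExt i π) : AlgGrp.IsNormalHom i := fun X g n => by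
  obtain ⟨n', hn'⟩ := h.ker X (g * (n ≫ i) * g⁻¹) (by
    rw [MonObj.mul_comp, MonObj.mul_comp, GrpObj.inv_comp, Category.assoc, h.comp, MonObj.comp_one,
      _root_.mul_one, mul_inv_cancel])
  exact ⟨n', hn'.symm⟩

/-- an extension of groups of multiplicative type is commutative if its fibres are connected or commutative -/
theorem IsExt.comm {E H K : Over S} [GrpObj E] [GrpObj K] [GrpObj H] {i : H ⟶ E} {π : E ⟶ K}
    [IsMonHom i] [IsMonHom π] (h : IsExt i π) (hH : SGA3x.IsMultTypeFT H) (hK : SGA3x.IsMultTypeFT K)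
    (hs : ∀ s : S, (∀ (X : Over S) (a b : X ⟶ E) (w : X.left ⟶ Spec (S.residueField s)),
        w ≫ S.fromSpecResidueField s = X.hom → a * b = b * a) ∨
      _root_.IsConnected (E.hom.base ⁻¹' {s}))
    (X : Over S) (a b : X ⟶ E) : a * b = b * a := by
  have := h.mono
  have hcen := central_of_normal hH i h.normal fun s => (hs s).imp_left fun hc X a g w hw => hc X _ g w hw
  simpa using comm_eq hK hH (𝟙 E) i π h.cov
    (fun Y a b => by
      refine h.ker Y _ ?_
      rw [Category.comp_id, Covers.commutator_comp, commutatorElement_eq_one_iff_mul_comm]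
      exact Central.mul_comm_of_multTypeFT hK _ _)
    (fun Y a n => by rw [Category.comp_id]; exact (hcen Y n a).symm)
    (fun Y a b ha => by
      obtain ⟨n, rfl⟩ := h.ker Y a ha
      rw [Category.comp_id]
      exact hcen Y n b)
    (fun s => (hs s).imp_left fun hc X a g w hw => by rw [Category.comp_id]; exact hc X a g w hw)
    X a b

/-- a central extension with quotient having connected fibres is commutative -/
theorem IsExt.comm_of_quot {E H K : Over S} [GrpObj E] [GrpObj K] [GrpObj H] {i : H ⟶ E} {π : E ⟶ K}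
    [IsMonHom i] [IsMonHom π] (h : IsExt i π) (hH : SGA3x.IsMultTypeFT H) (hK : SGA3x.IsMultTypeFT K)
    (hcen : ∀ (X : Over S) (n : X ⟶ H) (e : X ⟶ E), (n ≫ i) * e = e * (n ≫ i))
    (hconn : ∀ s : S, _root_.IsConnected (K.hom.base ⁻¹' {s}))
    (X : Over S) (a b : X ⟶ E) : a * b = b * a := by
  have := h.mono
  obtain ⟨φ, hφ⟩ := exists_commFam (𝟙 E) i fun Y a b => h.ker Y _ (by
    rw [Category.comp_id, Covers.commutator_comp, commutatorElement_eq_one_iff_mul_comm]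
    exact Central.mul_comm_of_multTypeFT hK _ _)
  simp only [Category.comp_id] at hφ
  have hmul : HomSmooth.MulOn φ := fun Y t c c' => by
    rw [← cancel_mono i, hφ, MonObj.mul_comp, hφ, hφ, comm_mul_left, ← hφ Y c' t,
      ← hcen Y (lift c' t ≫ φ) c, mul_inv_cancel_right, ← hφ Y c t, ← MonObj.mul_comp _ _ i, ← MonObj.mul_comp _ _ i,
      Central.mul_comm_of_multTypeFT hH]
  have hker : ∀ (Y : Over S) (c t : Y ⟶ E), c ≫ π = 1 → lift c t ≫ φ = 1 ∧ lift t c ≫ φ = 1 := by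
    intro Y c t hc
    obtain ⟨n, rfl⟩ := h.ker Y c hc
    rw [← cancel_mono i, hφ, MonObj.one_comp, commutatorElement_eq_one_iff_mul_comm, ← cancel_mono i, hφ,
      MonObj.one_comp, commutatorElement_eq_one_iff_mul_comm]
    exact ⟨hcen Y n t, (hcen Y n t).symm⟩
  obtain ⟨ψ, -, hψ⟩ := exists_desc h.cov φ hmul fun Y c t hc => (hker Y c t hc).1
  let χ : E ⊗ K ⟶ H := lift (snd E K) (fst E K) ≫ ψ
  have hχ : ∀ (Y : Over S) (c : Y ⟶ E) (q : Y ⟶ K), lift c q ≫ χ = lift q c ≫ ψ := fun Y c q => by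
    rw [comp_lift_assoc, lift_fst, lift_snd]
  have hχm : HomSmooth.MulOn χ := fun Y q c c' => by
    obtain ⟨Y', d, q', hd, hq⟩ := exists_lift h.cov q
    have := hd.epi
    rw [hχ, hχ, hχ, ← cancel_epi d, MonObj.comp_mul, comp_lift_assoc, comp_lift_assoc, comp_lift_assoc,
      ← hq, hψ, hψ, hψ, MonObj.comp_mul, ← cancel_mono i, MonObj.mul_comp, hφ, hφ, hφ, comm_mul_right,
      ← hφ Y' q' (d ≫ c'), ← hcen Y' _ (d ≫ c), mul_inv_cancel_right]
  obtain ⟨ω, hωm, hω⟩ := exists_desc h.cov χ hχm fun Y c q hc => by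
    obtain ⟨Y', d, q', hd, hq⟩ := exists_lift h.cov q
    have := hd.epi
    rw [hχ, ← cancel_epi d, comp_lift_assoc, MonObj.comp_one, ← hq, hψ]
    exact (hker Y' _ q' (by rw [Category.assoc, hc, MonObj.comp_one])).2
  have hone := famOne hK hH ω hωm (fun s => Or.inr ⟨hconn s, η[K], fun Y q => by
    obtain ⟨Y', d, c, hd, hc⟩ := exists_lift h.cov q
    have := hd.epi
    rw [← cancel_epi d, comp_lift_assoc, MonObj.comp_one, ← hc, hω, hχ,
      show d ≫ toUnit Y ≫ η[K] = (1 : Y' ⟶ E) ≫ π by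
        rw [← Category.assoc, toUnit_unique (d ≫ toUnit Y) (toUnit Y'), ← Hom.one_def, MonObj.one_comp],
      hψ, ← cancel_mono i, hφ, MonObj.one_comp, commutatorElement_one_left]⟩)
  rw [← commutatorElement_eq_one_iff_mul_comm, ← hφ, ← hψ, ← hχ, ← hω, hone, MonObj.one_comp]

end Groth.L25.Extension
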