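import Groth.Agent.L25.Extension.Basic
import Groth.Agent.L25.Locus.Normalizer
import Groth.Agent.L25.HomScheme.MultFlat
import Groth.Agent.L23.AffineMor
import Groth.Agent.L23.QFDescent

/-!
# Extensions: transport, torsor square, properties of the projection
-/

set_option autoImplicit false
universe u

open CategoryTheory CategoryTheory.Limits MonoidalCategory CartesianMonoidalCategory
open AlgebraicGeometry TensorProduct WithConv
open scoped MonObj

set_option backward.isDefEq.respectTransparency.types false

noncomputable section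

namespace Groth.L25.Extension

section

variable {R A : Type u} [CommRing R] [CommRing A] [HopfAlgebra R A]

variable (R A) in
/-- a commutative group has a cocommutative Hopf algebra -/
theorem isCocomm_of_comm (h : ∀ (X : Over (Spec (CommRingCat.of R))) (a b : X ⟶ Bridge.P R A), a * b = b * a) :
    Coalgebra.IsCocomm R A := by
  have e := Spec.mapMulEquiv.injective (show
      Spec.mapMulEquiv (toConv (Algebra.TensorProduct.includeLeft : A →ₐ[R] A ⊗[R] A) *
          toConv (Algebra.TensorProduct.includeRight : A →ₐ[R] A ⊗[R] A)) =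
        Spec.mapMulEquiv (toConv (Algebra.TensorProduct.includeRight : A →ₐ[R] A ⊗[R] A) *
          toConv (Algebra.TensorProduct.includeLeft : A →ₐ[R] A ⊗[R] A)) by
    rw [map_mul, map_mul, h])
  refine ⟨?_⟩
  apply LinearMap.ext
  intro a
  have h1 := congrArg (fun m => m.ofConv a) e
  simp only [AlgHom.convMul_apply] at h1
  have hl : ∀ y : A ⊗[R] A, Algebra.TensorProduct.lift
      (Algebra.TensorProduct.includeLeft : A →ₐ[R] A ⊗[R] A) Algebra.TensorProduct.includeRight
      (fun _ _ => Commute.all _ _) y = y := by
    intro y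
    induction y with
    | zero => simp
    | add p q hp hq => simp only [map_add, hp, hq]
    | tmul p q => simp
  have hr : ∀ y : A ⊗[R] A, Algebra.TensorProduct.lift
      (Algebra.TensorProduct.includeRight : A →ₐ[R] A ⊗[R] A) Algebra.TensorProduct.includeLeft
      (fun _ _ => Commute.all _ _) y = TensorProduct.comm R A A y := by
    intro y
    induction y with
    | zero => simp
    | add p q hp hq => simp only [map_add, hp, hq]
    | tmul p q => simp
  rw [LinearMap.comp_apply, LinearEquiv.coe_coe]
  exact (hr _).symm.trans (h1.symm.trans (hl _))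

end

variable {S : Scheme.{u}} {E H K : Over S} [GrpObj E] [GrpObj K]

/-- transport along an isomorphism of the middle group -/
theorem IsExt.of_iso {i : H ⟶ E} {π : E ⟶ K} (h : IsExt i π) {E' : Over S} [GrpObj E'] (e : Grp.mk E ≅ Grp.mk E') :
    IsExt (i ≫ e.hom.hom.hom) (e.inv.hom.hom ≫ π) := by
  have e1 : e.hom.hom.hom ≫ e.inv.hom.hom = 𝟙 E := congr($(e.hom_inv_id).hom.hom)
  have e2 : e.inv.hom.hom ≫ e.hom.hom.hom = 𝟙 E' := congr($(e.inv_hom_id).hom.hom)
  have : IsIso e.hom.hom.hom := ⟨e.inv.hom.hom, e1, e2⟩
  have : IsIso e.inv.hom.hom := ⟨e.hom.hom.hom, e2, e1⟩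
  have := h.mono
  refine ⟨inferInstance, ?_, fun X a ha => ?_, Covers.Cov.comp ?_ h.cov⟩
  · rw [Category.assoc, ← Category.assoc e.hom.hom.hom, e1, Category.id_comp, h.comp]
  · obtain ⟨x, hx⟩ := h.ker X (a ≫ e.inv.hom.hom) (by rw [Category.assoc, ha])
    exact ⟨x, by rw [← Category.assoc, hx, Category.assoc, e2, Category.comp_id]⟩
  · have : IsIso e.inv.hom.hom.left := inferInstanceAs (IsIso ((Over.forget _).map e.inv.hom.hom))
    exact ⟨⟨inferInstance, inferInstance⟩, inferInstance⟩

/-- commutativity transports along an isomorphism -/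
theorem comm_of_iso {E' : Over S} [GrpObj E'] (e : Grp.mk E ≅ Grp.mk E')
    (hE : ∀ (X : Over S) (a b : X ⟶ E), a * b = b * a) (X : Over S) (a b : X ⟶ E') : a * b = b * a := by
  have e2 : e.inv.hom.hom ≫ e.hom.hom.hom = 𝟙 E' := congr($(e.inv_hom_id).hom.hom)
  have : IsMonHom e.hom.hom.hom := e.hom.hom.isMonHom_hom
  rw [← Category.comp_id a, ← Category.comp_id b, ← e2, ← Category.assoc, ← Category.assoc,
    ← (MonObj.mul_comp _ _ e.hom.hom.hom), ← (MonObj.mul_comp _ _ e.hom.hom.hom), hE]

variable [GrpObj H] {i : H ⟶ E} {π : E ⟶ K} [IsMonHom π]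

omit [GrpObj H] in
/-- the torsor square -/
theorem IsExt.isPullback_mul (h : IsExt i π) : IsPullback (fst E H) (fst E H * (snd E H ≫ i)) π π := by
  have := h.mono
  refine IsPullback.of_isLimit' ⟨by rw [MonObj.mul_comp, Category.assoc, h.comp, MonObj.comp_one, _root_.mul_one]⟩ ?_
  have hk : ∀ s : PullbackCone π π, ∃ x, x ≫ i = s.fst⁻¹ * s.snd := fun s =>
    h.ker _ _ (by rw [MonObj.mul_comp, GrpObj.inv_comp, s.condition, inv_mul_cancel])
  choose x hx using hk
  refine PullbackCone.IsLimit.mk _ (fun s => lift s.fst (x s)) (fun s => lift_fst _ _) (fun s => ?_) fun s m h1 h2 => ?_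
  · rw [MonObj.comp_mul, lift_fst, lift_snd_assoc, hx, mul_inv_cancel_left]
  · apply hom_ext
    · rw [lift_fst, h1]
    · rw [lift_snd, ← cancel_mono i, hx, Category.assoc, ← h2, MonObj.comp_mul, h1, inv_mul_cancel_left]

/-- the projection of an extension inherits the descending properties of the kernel -/
theorem IsExt.of_descends (h : IsExt i π) (P : MorphismProperty Scheme.{u}) [P.IsStableUnderBaseChange]
    [P.DescendsAlong (@Surjective ⊓ @Flat ⊓ @QuasiCompact)] (hP : P H.hom) : P π.left := by
  have h1 : P (fst E H).left := MorphismProperty.of_isPullback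
    (show IsPullback (snd E H).left (fst E H).left H.hom E.hom from (IsPullback.of_hasPullback E.hom H.hom).flip) hP
  exact MorphismProperty.of_isPullback_of_descendsAlong (h.isPullback_mul.map (Over.forget S)) h.cov h1

/-- extensions of groups of multiplicative type are affine, flat and of finite presentation -/
theorem IsExt.props (h : IsExt i π) (hH : SGA3x.IsMultTypeFT H) (hK : SGA3x.IsMultTypeFT K) :
    IsAffineHom E.hom ∧ Flat E.hom ∧ LocallyOfFinitePresentation E.hom := by
  have : IsAffineHom K.hom := Central.isAffineHom_of_multTypeFT hK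
  have : Flat K.hom := HomScheme.flat_of_multTypeFT hK
  have : LocallyOfFinitePresentation K.hom := Locus.lfp_of_multTypeFT hK
  have : IsAffineHom π.left := h.of_descends @IsAffineHom (Central.isAffineHom_of_multTypeFT hH)
  have : Flat π.left := h.of_descends @Flat (HomScheme.flat_of_multTypeFT hH)
  have : LocallyOfFinitePresentation π.left := h.of_descends @LocallyOfFinitePresentation (Locus.lfp_of_multTypeFT hH)
  rw [← Over.w π]
  exact ⟨inferInstance, inferInstance, inferInstance⟩

end Groth.L25.Extension
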