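import Groth.Agent.L25.Covers
import Groth.Agent.L25.Actions
import Groth.Agent.L25.Locus.Smooth
import Groth.Agent.L25.Locus.Normalizer
import Groth.Agent.L25.HomSmooth.Glue
import Groth.Agent.L25.MonoClosed.Main
import Groth.Agent.L25.MonoFibres
import Groth.Agent.L25.Bridge.TorsionLift
import Groth.Prelude.Def_AlgGrp

/-!
# Extensions of group schemes, on points
-/

set_option autoImplicit false
universe u

open CategoryTheory CategoryTheory.Limits MonoidalCategory CartesianMonoidalCategory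
open AlgebraicGeometry
open scoped MonObj

set_option backward.isDefEq.respectTransparency.types false

noncomputable section

namespace Groth.L25.Extension

variable {S : Scheme.{u}} {E H K : Over S} [GrpObj E] [GrpObj K]

/-- `π` is a covering with kernel `i` -/
structure IsExt (i : H ⟶ E) (π : E ⟶ K) : Prop where
  mono : Mono i
  comp : i ≫ π = 1
  ker : ∀ (X : Over S) (a : X ⟶ E), a ≫ π = 1 → ∃ h, h ≫ i = a
  cov : Covers.Cov π

omit [GrpObj E] in
/-- a kernel in the sense of cartesian squares -/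
theorem IsExt.of_isKernel {i : H ⟶ E} {π : E ⟶ K} [Surjective π.left] [Flat π.left] [QuasiCompact π.left]
    (hk : AlgGrp.IsKernel i π) : IsExt i π where
  mono := ⟨fun a b e => hk.hom_ext e (toUnit_unique _ _)⟩
  comp := hk.w.trans (by rw [Hom.one_def])
  ker X a ha := ⟨hk.lift a (toUnit X) (by rw [ha, Hom.one_def]), hk.lift_fst _ _ _⟩
  cov := ⟨⟨inferInstance, inferInstance⟩, inferInstance⟩

omit [GrpObj E] [GrpObj K] in
/-- points lift after a covering -/
theorem exists_lift {π : E ⟶ K} (hπ : Covers.Cov π) {Y : Over S} (a : Y ⟶ K) :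
    ∃ (Y' : Over S) (c : Y' ⟶ Y) (a' : Y' ⟶ E), Covers.Cov c ∧ a' ≫ π = c ≫ a :=
  ⟨pullback a π, pullback.fst a π, pullback.snd a π, Covers.Cov.of_isPullback (.of_hasPullback a π) hπ,
    pullback.condition.symm⟩

omit [GrpObj E] [GrpObj K] in
/-- points lift in pairs after a covering -/
theorem exists_lift₂ {π : E ⟶ K} (hπ : Covers.Cov π) {Y : Over S} (a b : Y ⟶ K) :
    ∃ (Y' : Over S) (c : Y' ⟶ Y) (a' b' : Y' ⟶ E), Covers.Cov c ∧ a' ≫ π = c ≫ a ∧ b' ≫ π = c ≫ b := by
  obtain ⟨Y₁, c, a', hc, ha⟩ := exists_lift hπ a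
  obtain ⟨Y₂, d, b', hd, hb⟩ := exists_lift hπ (c ≫ b)
  exact ⟨Y₂, d ≫ c, d ≫ a', b', hd.comp hc, by rw [Category.assoc, ha, Category.assoc], by rw [hb, Category.assoc]⟩

/-- the quotient of a commutative group is commutative -/
theorem comm_of_cov {π : E ⟶ K} [IsMonHom π] (hπ : Covers.Cov π)
    (hE : ∀ (X : Over S) (a b : X ⟶ E), a * b = b * a) (X : Over S) (a b : X ⟶ K) : a * b = b * a := by
  obtain ⟨Y', c, a', b', hc, ha, hb⟩ := exists_lift₂ hπ a b
  have := hc.epi
  rw [← cancel_epi c, MonObj.comp_mul, MonObj.comp_mul, ← ha, ← hb, ← MonObj.mul_comp, ← MonObj.mul_comp, hE]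

omit [GrpObj E] [GrpObj K] in
theorem cov_whiskerRight {π : E ⟶ K} (hπ : Covers.Cov π) (T : Over S) : Covers.Cov (π ▷ T) :=
  ⟨⟨Actions.of_whiskerRight @Surjective π T hπ.1.1, Actions.of_whiskerRight @Flat π T hπ.1.2⟩,
    Actions.of_whiskerRight @QuasiCompact π T hπ.2⟩

/-- a family of homomorphisms killing the kernel descends to the quotient -/
theorem exists_desc {T W : Over S} [GrpObj W] {π : E ⟶ K} [IsMonHom π] (hπ : Covers.Cov π)
    (φ : E ⊗ T ⟶ W) (hφ : HomSmooth.MulOn φ)
    (hker : ∀ (X : Over S) (a : X ⟶ E) (t : X ⟶ T), a ≫ π = 1 → lift a t ≫ φ = 1) :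
    ∃ ψ : K ⊗ T ⟶ W, HomSmooth.MulOn ψ ∧ ∀ (X : Over S) (a : X ⟶ E) (t : X ⟶ T),
      lift (a ≫ π) t ≫ ψ = lift a t ≫ φ := by
  have hc := cov_whiskerRight hπ T
  obtain ⟨⟨_, _⟩, _⟩ := id hc
  obtain ⟨ψ, hψ, -⟩ := Actions.existsUnique_desc (π ▷ T) φ fun Z g₁ g₂ hg => by
    have e1 : (g₁ ≫ fst E T) ≫ π = (g₂ ≫ fst E T) ≫ π := by
      rw [Category.assoc, Category.assoc, ← whiskerRight_fst π T, ← Category.assoc, hg, Category.assoc]
    have e2 : g₁ ≫ snd E T = g₂ ≫ snd E T := by
      rw [← whiskerRight_snd π T, ← Category.assoc, hg, Category.assoc]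
    have hl : ∀ g : Z ⟶ E ⊗ T, g = lift (g ≫ fst E T) (g ≫ snd E T) := fun g => by
      rw [← comp_lift, lift_fst_snd, Category.comp_id]
    rw [hl g₁, hl g₂, ← e2]
    let d := (g₁ ≫ fst E T) * (g₂ ≫ fst E T)⁻¹
    have hd : d ≫ π = 1 := by
      rw [MonObj.mul_comp, GrpObj.inv_comp, e1, mul_inv_cancel]
    rw [show g₁ ≫ fst E T = d * (g₂ ≫ fst E T) by simp [d], hφ, hker Z d _ hd, _root_.one_mul]
  have key : ∀ (X : Over S) (a : X ⟶ E) (t : X ⟶ T), lift (a ≫ π) t ≫ ψ = lift a t ≫ φ := fun X a t => by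
    rw [← hψ, ← Category.assoc, lift_whiskerRight]
  refine ⟨ψ, fun Y p a b => ?_, key⟩
  obtain ⟨Y', c, a', b', hc', ha, hb⟩ := exists_lift₂ hπ a b
  have := hc'.epi
  rw [← cancel_epi c, comp_lift_assoc, MonObj.comp_mul, MonObj.comp_mul, comp_lift_assoc, comp_lift_assoc,
    ← ha, ← hb, ← MonObj.mul_comp, key, key, key, hφ]

section BC

variable {P : Scheme.{u}} (j : P ⟶ S)

omit [GrpObj E] [GrpObj K] in
/-- base change of coverings -/
theorem cov_bc {π : E ⟶ K} (hπ : Covers.Cov π) : Covers.Cov ((Over.pullback j).map π) := by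
  have hsq : IsPullback ((Over.pullback j).map π).left (pullback.fst E.hom j) (pullback.fst K.hom j) π.left := by
    refine IsPullback.of_right ?_ (pullback.lift_fst _ _ _) (IsPullback.of_hasPullback K.hom j).flip
    show IsPullback (((Over.pullback j).map π).left ≫ (Red.bc j K).hom) _ _ (π.left ≫ K.hom)
    rw [Over.w, Over.w]
    exact (IsPullback.of_hasPullback E.hom j).flip
  exact ⟨⟨MorphismProperty.of_isPullback hsq.flip hπ.1.1, MorphismProperty.of_isPullback hsq.flip hπ.1.2⟩,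
    MorphismProperty.of_isPullback hsq.flip hπ.2⟩

theorem toBase_eq_one_iff {Y : Over P} (a : Y ⟶ Red.bc j E) : NilAction.toBase j a = 1 ↔ a = 1 := by
  constructor
  · intro h
    rw [← NilAction.ofBase_toBase j a, h, ← NilAction.toBase_one j, NilAction.ofBase_toBase]
  · rintro rfl
    exact NilAction.toBase_one j

/-- commutativity is stable under base change -/
theorem comm_bc (hE : ∀ (X : Over S) (a b : X ⟶ E), a * b = b * a) (Y : Over P) (a b : Y ⟶ Red.bc j E) :
    a * b = b * a := by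
  rw [← NilAction.ofBase_toBase j (a * b), ← NilAction.ofBase_toBase j (b * a), NilAction.toBase_mul,
    NilAction.toBase_mul, hE]

omit [GrpObj E] in
/-- extensions are stable under base change -/
theorem IsExt.bc {i : H ⟶ E} {π : E ⟶ K} (h : IsExt i π) :
    IsExt ((Over.pullback j).map i) ((Over.pullback j).map π) where
  mono := ⟨fun {Y} a b e => by
    have := h.mono
    have e1 := congrArg (NilAction.toBase j) e
    rw [Locus.toBase_map, Locus.toBase_map, cancel_mono] at e1
    rw [← NilAction.ofBase_toBase j a, e1, NilAction.ofBase_toBase]⟩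
  comp := by
    have e : NilAction.toBase j (𝟙 (Red.bc j H) ≫ (Over.pullback j).map i ≫ (Over.pullback j).map π) = 1 := by
      rw [← Functor.map_comp, Locus.toBase_map, h.comp, MonObj.comp_one]
    rw [Category.id_comp] at e
    exact (toBase_eq_one_iff j _).1 e
  ker Y a ha := by
    have e := (toBase_eq_one_iff j _).2 ha
    rw [Locus.toBase_map] at e
    obtain ⟨x, hx⟩ := h.ker _ _ e
    exact ⟨NilAction.ofBase j x, by rw [NilAction.ofBase_comp, hx, NilAction.ofBase_toBase]⟩
  cov := cov_bc j h.cov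

end BC

end Groth.L25.Extension
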