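import Groth.Agent.L25.LargestMult.Scheme
import Groth.Agent.L25.Extension.Basic

/-!
# Commutative extensions of groups of multiplicative type over a field are of multiplicative type
-/

set_option autoImplicit false
universe u

open CategoryTheory CategoryTheory.Limits MonoidalCategory CartesianMonoidalCategory
open AlgebraicGeometry
open scoped MonObj

set_option backward.isDefEq.respectTransparency.types false
set_option linter.style.haveILetI false

noncomputable section

namespace Groth.L25.Extension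

variable {k : Type u} [Field k]

/-- without homomorphisms to the additive group a commutative affine algebraic group is of
multiplicative type -/
theorem isMultTypeFT_of_no_hom_ga {A : Type u} [CommRing A] [HopfAlgebra k A] [Algebra.FiniteType k A]
    [Coalgebra.IsCocomm k A]
    (hGa : ∀ (u : Bridge.P k A ⟶ Red.Ga (Spec (CommRingCat.of k))) [IsMonHom u], u = 1) :
    SGA3x.IsMultTypeFT (Bridge.P k A) := by
  let Sk := Spec (CommRingCat.of k)
  let Z := Bridge.P k A
  let x : Over.mk (Z.hom ≫ 𝟙 Sk) ⟶ Z := Over.homMk (𝟙 Z.left) (by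
    show 𝟙 Z.left ≫ Z.hom = Z.hom ≫ 𝟙 Sk
    rw [Category.id_comp, Category.comp_id])
  let v : Z ⟶ Red.bc (𝟙 Sk) Z := NilAction.ofBase (𝟙 Sk) x
  have : IsMonHom v := Bridge.isMonHom_of_mul v fun Y a b => by
    let c : Over.mk (Y.hom ≫ 𝟙 Sk) ⟶ Y := Over.homMk (𝟙 Y.left) (by
      show 𝟙 Y.left ≫ Y.hom = Y.hom ≫ 𝟙 Sk
      rw [Category.id_comp, Category.comp_id])
    have e : ∀ a : Y ⟶ Z, NilAction.toBase (𝟙 Sk) (a ≫ v) = c ≫ a := fun a => by
      apply Over.OverMorphism.ext
      show (a.left ≫ pullback.lift (𝟙 Z.left) Z.hom _) ≫ pullback.fst _ _ = 𝟙 _ ≫ a.left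
      rw [Category.assoc, pullback.lift_fst, Category.comp_id, Category.id_comp]
    rw [← NilAction.ofBase_toBase (𝟙 Sk) ((a * b) ≫ v), e, MonObj.comp_mul, ← e, ← e, ← NilAction.toBase_mul,
      NilAction.ofBase_toBase]
  have htot : LargestMult.tot (𝟙 Z) v = 𝟙 Z.left := by
    show (pullback.lift (𝟙 Z.left) Z.hom _ ≫ pullback.fst _ _) ≫ 𝟙 _ = _
    rw [pullback.lift_fst]
    exact Category.comp_id _
  have hN : ∀ n, ∀ b ∈ LargestMult.N k A n, b = algebraMap k A (Coalgebra.counit (R := k) b) := by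
    intro n b hb
    have h := LargestMult.val_eq_counit_of (𝟙 Z) v (fun u _ => hGa u) n b hb
    rw [htot] at h
    have h' : LargestMult.val (Spec.map (CommRingCat.ofHom (RingHom.id A))) b = LargestMult.val
        (Spec.map (CommRingCat.ofHom (RingHom.id A))) (algebraMap k A (Coalgebra.counit (R := k) b)) := by
      rw [CommRingCat.ofHom_id, Spec.map_id]
      exact h
    erw [LargestMult.val_specMap, LargestMult.val_specMap] at h'
    have h := h' 
    exact (ConcreteCategory.bijective_of_isIso (Scheme.ΓSpecIso (CommRingCat.of A)).inv).1 h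
  have hJ : LargestMult.J k A ≤ ⊥ := by
    unfold LargestMult.J
    rw [Ideal.map_le_iff_le_comap]
    intro b hb
    obtain ⟨n, hn⟩ := LargestMult.mem_B.1 b.2
    have h0 : Coalgebra.counit (R := k) (b : A) = 0 := hb
    show (b : A) ∈ (⊥ : Ideal A)
    rw [Ideal.mem_bot, hN n _ hn, h0, map_zero]
  letI := LargestMult.isHopfIdeal_J (k := k) (A := A)
  let q : A →ₐc[k] A ⧸ LargestMult.J k A := Bialgebra.Quotient.mkBialgHom (LargestMult.J k A)
  have hq : Function.Bijective q := ⟨fun a b h => sub_eq_zero.1 (Ideal.mem_bot.1 (hJ (Ideal.Quotient.eq.1 h))),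
    Ideal.Quotient.mk_surjective⟩
  exact Bridge.isMultTypeFT_of_iso (Bridge.mapIso (BialgEquiv.ofBijective q hq))
    (LargestMult.isMultTypeFT_of_const k (A ⧸ LargestMult.J k A) LargestMult.isMultTypeConst_quotient)

/-- extensions of groups of multiplicative type have no homomorphisms to the additive group -/
theorem IsExt.hom_ga_eq_one {E H K : Over (Spec (CommRingCat.of k))} [GrpObj E] [GrpObj H] [GrpObj K]
    {i : H ⟶ E} {π : E ⟶ K} [IsMonHom i] [IsMonHom π] (h : IsExt i π)
    (hH : SGA3x.IsMultTypeFT H) (hK : SGA3x.IsMultTypeFT K)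
    (w : E ⟶ Red.Ga (Spec (CommRingCat.of k))) [IsMonHom w] : w = 1 := by
  have hiw : i ≫ w = 1 := MonoNhd.hom_ga_eq_one hH (i ≫ w)
  obtain ⟨⟨_, _⟩, _⟩ := h.cov
  obtain ⟨w', hw', -⟩ := Actions.existsUnique_desc π w fun Z g₁ g₂ hg => by
    obtain ⟨n, hn⟩ := h.ker Z (g₁ * g₂⁻¹) (by rw [MonObj.mul_comp, GrpObj.inv_comp, hg, mul_inv_cancel])
    have h1 : (g₁ * g₂⁻¹) ≫ w = 1 := by rw [← hn, Category.assoc, hiw, MonObj.comp_one]
    rwa [(MonObj.mul_comp _ _ _ : (g₁ * g₂⁻¹) ≫ w = (g₁ ≫ w) * (g₂⁻¹ ≫ w)),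
      (GrpObj.inv_comp _ _ : g₂⁻¹ ≫ w = (g₂ ≫ w)⁻¹), mul_inv_eq_one] at h1
  have : IsMonHom w' := Bridge.isMonHom_of_mul w' fun Y a b => by
    obtain ⟨Y', c, a', b', hc, ha, hb⟩ := exists_lift₂ h.cov a b
    have := hc.epi
    rw [← cancel_epi c, ← Category.assoc, MonObj.comp_mul, MonObj.comp_mul, ← Category.assoc, ← Category.assoc,
      ← ha, ← hb, ← (MonObj.mul_comp _ _ π : (a' * b') ≫ π = _), Category.assoc, Category.assoc, Category.assoc, hw',
      (MonObj.mul_comp _ _ _ : (a' * b') ≫ w = _)]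
  rw [← hw', MonoNhd.hom_ga_eq_one hK w', MonObj.comp_one]

/-- a commutative affine extension of groups of multiplicative type over a field -/
theorem IsExt.multType_field {E H K : Over (Spec (CommRingCat.of k))} [GrpObj E] [GrpObj H] [GrpObj K]
    {i : H ⟶ E} {π : E ⟶ K} [IsMonHom i] [IsMonHom π] (h : IsExt i π)
    (hE : ∀ (X : Over (Spec (CommRingCat.of k))) (a b : X ⟶ E), a * b = b * a)
    [IsAffine E.left] [LocallyOfFiniteType E.hom]
    (hH : SGA3x.IsMultTypeFT H) (hK : SGA3x.IsMultTypeFT K) : SGA3x.IsMultTypeFT E := by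
  obtain ⟨A, _, _, ⟨e⟩⟩ := Bridge.exists_hopf (R := k) E
  have hiso : IsIso e.inv.hom.hom :=
    ⟨e.hom.hom.hom, congr($(e.inv_hom_id).hom.hom), congr($(e.hom_inv_id).hom.hom)⟩
  have : IsIso e.inv.hom.hom.left := inferInstanceAs (IsIso ((Over.forget _).map e.inv.hom.hom))
  have : IsMonHom e.inv.hom.hom := e.inv.hom.isMonHom_hom
  have : IsMonHom e.hom.hom.hom := e.hom.hom.isMonHom_hom
  have : Algebra.FiniteType k A := by
    have h : LocallyOfFiniteType (Bridge.P k A).hom := by
      rw [← Over.w e.inv.hom.hom]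
      infer_instance
    change LocallyOfFiniteType (Spec.map (CommRingCat.ofHom (algebraMap k A))) at h
    rw [HasRingHomProperty.Spec_iff (P := @LocallyOfFiniteType), CommRingCat.hom_ofHom,
      RingHom.finiteType_algebraMap] at h
    exact h
  have : Coalgebra.IsCocomm k A := LargestMult.isCocomm_of_comm k A fun X a b => by
    rw [← cancel_mono e.inv.hom.hom, MonObj.mul_comp, MonObj.mul_comp, hE]
  refine Bridge.isMultTypeFT_of_iso e.symm (isMultTypeFT_of_no_hom_ga fun u _ => ?_)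
  have hw1 : e.hom.hom.hom ≫ u = 1 := h.hom_ga_eq_one hH hK (e.hom.hom.hom ≫ u)
  have : Epi e.hom.hom.hom := (SplitEpi.mk e.inv.hom.hom congr($(e.inv_hom_id).hom.hom)).epi
  rw [← cancel_epi e.hom.hom.hom, hw1, MonObj.comp_one]

end Groth.L25.Extension
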