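import Groth.Agent.L25.Extension.PowFinite

/-!
# Torsion subschemes of extensions of groups of multiplicative type are finite
-/

set_option autoImplicit false
universe u

open CategoryTheory CategoryTheory.Limits MonoidalCategory CartesianMonoidalCategory
open AlgebraicGeometry
open scoped MonObj

set_option backward.isDefEq.respectTransparency.types false

noncomputable section

namespace Groth.L25.Extension

variable {S : Scheme.{u}} {E H K : Over S} [GrpObj E] [GrpObj H] [GrpObj K] {i : H ⟶ E} {π : E ⟶ K}
  [IsMonHom i] [IsMonHom π]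

/-- a closed subscheme killed by a positive integer is finite over the base -/
theorem IsExt.finite_killed (h : IsExt i π) (hE : ∀ (X : Over S) (a b : X ⟶ E), a * b = b * a)
    (hH : SGA3x.IsMultTypeFT H) (hK : SGA3x.IsMultTypeFT K) {X : Over S} (x : X ⟶ E) [IsClosedImmersion x.left]
    {n : ℕ} (hn : 0 < n) (hx : x ^ n = 1) : IsFinite X.hom := by
  have : IsAffineHom K.hom := Central.isAffineHom_of_multTypeFT hK
  have : IsAffineHom H.hom := Central.isAffineHom_of_multTypeFT hH
  have : Mono i := h.mono
  let pK : K ⟶ K := (𝟙 K) ^ n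
  have : IsFinite pK.left := finite_pow hK hn
  -- the torsion of the quotient
  let Kn : Over S := Over.mk (pullback.fst pK.left η[K].left ≫ K.hom)
  let k : Kn ⟶ K := Over.homMk (pullback.fst pK.left η[K].left) rfl
  have hid : ∀ (G : Over S) [GrpObj G], η[G].left ≫ G.hom = 𝟙 S := fun G _ => Over.w η[G]
  have hKn : Kn.hom = pullback.snd pK.left η[K].left := by
    show pullback.fst pK.left η[K].left ≫ K.hom = _
    rw [← Over.w pK, ← Category.assoc, pullback.condition, Category.assoc, hid]
    exact Category.comp_id _
  have hKnf : IsFinite Kn.hom := hKn ▸ MorphismProperty.pullback_snd _ _ ‹_›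
  have hk1 : k ^ n = 1 := by
    rw [← Category.comp_id k, ← MonObj.comp_pow]
    apply Over.OverMorphism.ext
    rw [MonoFibres.one_left]
    show pullback.fst pK.left η[K].left ≫ pK.left = Kn.hom ≫ η[K].left
    rw [pullback.condition, hKn]
  obtain ⟨z, hz⟩ : ∃ z : X ⟶ Kn, z ≫ k = x ≫ π := by
    have e : ((x ≫ π) ≫ pK).left = X.hom ≫ η[K].left := by
      rw [MonObj.comp_pow, Category.comp_id, ← MonObj.pow_comp, hx, MonObj.one_comp, MonoFibres.one_left]
    exact ⟨Over.homMk (pullback.lift (x ≫ π).left X.hom e) (by
      rw [hKn]; exact pullback.lift_snd _ _ _), Over.OverMorphism.ext (pullback.lift_fst _ _ _)⟩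
  -- the covering
  let P := pullback k π
  let e₀ : P ⟶ E := pullback.snd k π
  let q : P ⟶ Kn := pullback.fst k π
  have hq : Covers.Cov q := Covers.Cov.of_isPullback (.of_hasPullback k π) h.cov
  obtain ⟨c, hc⟩ := h.ker P (e₀ ^ n)⁻¹ (by
    rw [GrpObj.inv_comp, MonObj.pow_comp, ← pullback.condition, ← MonObj.comp_pow, hk1, MonObj.comp_one, inv_one])
  let pH : H ⟶ H := (𝟙 H) ^ n
  have : IsFinite pH.left := finite_pow hH hn
  let W := pullback pH c
  let X' := pullback z q
  let z' : X' ⟶ P := pullback.snd z q
  let x' : X' ⟶ E := pullback.fst z q ≫ x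
  obtain ⟨d, hd⟩ := h.ker X' (x' * (z' ≫ e₀)⁻¹) (by
    rw [MonObj.mul_comp, GrpObj.inv_comp, Category.assoc, Category.assoc, ← hz, ← pullback.condition (f := k) (g := π)]
    show pullback.fst z q ≫ z ≫ k * (pullback.snd z q ≫ q ≫ k)⁻¹ = 1
    rw [← Category.assoc, pullback.condition, Category.assoc, mul_inv_cancel])
  have hdn : d ≫ pH = z' ≫ c := by
    rw [MonObj.comp_pow, Category.comp_id, ← cancel_mono i, MonObj.pow_comp, hd, Category.assoc, hc, GrpObj.comp_inv,
      MonObj.comp_pow, Commute.mul_pow (hE _ _ _)]
    show (pullback.fst z q ≫ x) ^ n * _ = _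
    rw [← MonObj.comp_pow, hx, MonObj.comp_one, _root_.one_mul, inv_pow]
  let θ : X' ⟶ W := pullback.lift d z' hdn
  let w₁ : W ⟶ E ⊗ P := lift ((pullback.fst pH c ≫ i) * (pullback.snd pH c ≫ e₀)) (pullback.snd pH c)
  have hθ : θ ≫ w₁ = lift x' z' := by
    simp only [w₁, comp_lift, MonObj.comp_mul, θ, pullback.lift_fst_assoc, pullback.lift_snd_assoc,
      pullback.lift_snd, hd, inv_mul_cancel_right]
  have hXP : IsClosedImmersion (lift (pullback.fst z q) z' : X' ⟶ X ⊗ P).left := by
    have hpb := (IsPullback.of_hasPullback z q).map (Over.forget S)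
    let a : X'.left ⟶ pullback z.left q.left := hpb.isoPullback.hom
    have : IsSeparated Kn.hom := inferInstance
    have hm : IsClosedImmersion (pullback.mapDesc z.left q.left Kn.hom) := inferInstance
    let m : pullback (z.left ≫ Kn.hom) (q.left ≫ Kn.hom) ⟶ (X ⊗ P).left :=
      pullback.map _ _ X.hom P.hom (𝟙 _) (𝟙 _) (𝟙 _) (by rw [Category.comp_id, Category.id_comp, Over.w z])
        (by rw [Category.comp_id, Category.id_comp, Over.w q])
    have : IsIso m := inferInstanceAs (IsIso (pullback.map _ _ _ _ _ _ _ _ _))
    have hm1 : (pullback.mapDesc z.left q.left Kn.hom ≫ m) ≫ pullback.fst X.hom P.hom =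
        pullback.fst z.left q.left := by
      simp only [m, pullback.mapDesc, pullback.map, Category.assoc, pullback.lift_fst, pullback.lift_fst_assoc,
        Category.comp_id]
    have hm2 : (pullback.mapDesc z.left q.left Kn.hom ≫ m) ≫ pullback.snd X.hom P.hom =
        pullback.snd z.left q.left := by
      simp only [m, pullback.mapDesc, pullback.map, Category.assoc, pullback.lift_snd, pullback.lift_snd_assoc,
        Category.comp_id]
    have e : (lift (pullback.fst z q) z' : X' ⟶ X ⊗ P).left = a ≫ pullback.mapDesc z.left q.left Kn.hom ≫ m := by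
      apply pullback.hom_ext
      · refine (congrArg (fun m : X' ⟶ X => m.left) (lift_fst (pullback.fst z q) z')).trans ?_
        exact hpb.isoPullback_hom_fst.symm.trans ((congrArg (a ≫ ·) hm1.symm).trans (Category.assoc _ _ _).symm)
      · refine (congrArg (fun m : X' ⟶ P => m.left) (lift_snd (pullback.fst z q) z')).trans ?_
        exact hpb.isoPullback_hom_snd.symm.trans ((congrArg (a ≫ ·) hm2.symm).trans (Category.assoc _ _ _).symm)
    rw [e]
    infer_instance
  have hxz : IsClosedImmersion (lift x' z').left := by
    have hxP : IsClosedImmersion (x ▷ P).left := Actions.of_whiskerRight @IsClosedImmersion x P ‹_›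
    rw [show lift x' z' = lift (pullback.fst z q) z' ≫ x ▷ P from (lift_whiskerRight _ _ _).symm, Over.comp_left]
    infer_instance
  have hW : IsFinite (pullback.snd pH c).left :=
    MorphismProperty.of_isPullback ((IsPullback.of_hasPullback pH c).map (Over.forget S)) ‹IsFinite pH.left›
  have hθc : IsClosedImmersion θ.left := by
    have : IsSeparated w₁.left := by
      have h1 : IsSeparated (w₁.left ≫ (snd E P).left) := by
        rw [← Over.comp_left, lift_snd]; infer_instance
      exact IsSeparated.of_comp w₁.left (snd E P).left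
    have : IsClosedImmersion (θ.left ≫ w₁.left) := by rw [← Over.comp_left, hθ]; exact hxz
    exact IsClosedImmersion.of_comp θ.left w₁.left
  have hz' : IsFinite z'.left := by
    rw [show z' = θ ≫ pullback.snd pH c from (pullback.lift_snd _ _ _).symm, Over.comp_left]
    infer_instance
  -- descent
  have : MorphismProperty.DescendsAlong (@IsFinite : MorphismProperty Scheme.{u})
      (@Surjective ⊓ @Flat ⊓ @QuasiCompact) := inferInstance
  have hzf : IsFinite z.left :=
    MorphismProperty.of_isPullback_of_descendsAlong (Q := (@Surjective ⊓ @Flat ⊓ @QuasiCompact))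
      ((IsPullback.of_hasPullback z q).map (Over.forget S)).flip hq hz'
  rw [← Over.w z]
  infer_instance

end Groth.L25.Extension
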