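import Groth.Agent.S5299
import Groth.Agent.L25.Extension.Affine
import Groth.Agent.L25.Extension.Field
import Groth.Agent.L25.Extension.Torsion
import Groth.Agent.L25.MultSub.Main
import Groth.Agent.L25.Char.SpreadLocal

/-!
# Commutative extensions of groups of multiplicative type are of multiplicative type
-/

set_option autoImplicit false
universe u

open CategoryTheory CategoryTheory.Limits MonoidalCategory CartesianMonoidalCategory
open AlgebraicGeometry TensorProduct WithConv
open scoped MonObj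

set_option backward.isDefEq.respectTransparency.types false
set_option linter.style.haveILetI false

noncomputable section

namespace Groth.L25.Extension

section Affine

variable {R A : Type u} [CommRing R] [CommRing A] [HopfAlgebra R A]
  {H K : Over (Spec (CommRingCat.of R))} [GrpObj H] [GrpObj K] {i : H ⟶ Bridge.P R A} {π : Bridge.P R A ⟶ K}
  [IsMonHom i] [IsMonHom π]

theorem IsExt.finite_torsion (h : IsExt i π)
    (hE : ∀ (X : Over (Spec (CommRingCat.of R))) (a b : X ⟶ Bridge.P R A), a * b = b * a)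
    (hH : SGA3x.IsMultTypeFT H) (hK : SGA3x.IsMultTypeFT K) {n : ℕ} (hn : 0 < n) :
    Module.Finite R (A ⧸ SGA3b.torsionIdeal R A n) := by
  let T := SGA3b.torsionIdeal R A n
  let c : Cocycle.X (𝟙 (Spec (CommRingCat.of R))) (A ⧸ T) ⟶ Bridge.P R A :=
    Over.homMk (Spec.map (CommRingCat.ofHom (Ideal.Quotient.mk T))) (by
      show Spec.map _ ≫ Spec.map (CommRingCat.ofHom (algebraMap R A)) = Spec.map _ ≫ 𝟙 _
      rw [Category.comp_id, ← Spec.map_comp]
      rfl)
  have hc : c ^ n = 1 := by
    let f : (Bridge.P R A ⟶ Bridge.P R A) →* (Cocycle.X (𝟙 (Spec (CommRingCat.of R))) (A ⧸ T) ⟶ Bridge.P R A) :=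
      MonoidHom.mk' (c ≫ ·) fun a b => MonObj.comp_mul _ _ _
    let pw : WithConv (A →ₐ[R] A) := toConv (AlgHom.id R A) ^ n
    have h1 : Spec.mapMulEquiv (R := R) (toConv (AlgHom.id R A)) = 𝟙 (Bridge.P R A) :=
      Over.OverMorphism.ext (Spec.map_id _)
    have h2 : c ≫ Spec.mapMulEquiv pw = c ≫ Spec.mapMulEquiv (1 : WithConv (A →ₐ[R] A)) := by
      apply Over.OverMorphism.ext
      show Spec.map _ ≫ Spec.map _ = Spec.map _ ≫ Spec.map _
      rw [← Spec.map_comp, ← Spec.map_comp]
      congr 1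
      ext b
      exact Ideal.Quotient.eq.2 (MultType.torsionIdeal_le_iff.1 (le_refl T) b)
    have h3 : f (𝟙 (Bridge.P R A) ^ n) = f 1 := by
      rw [← h1, ← map_pow, ← map_one (Spec.mapMulEquiv (R := R) (S := A) (T := A))]
      exact h2
    rw [map_pow, map_one] at h3
    have h4 : f (𝟙 (Bridge.P R A)) = c := Category.comp_id c
    rwa [h4] at h3
  have : IsClosedImmersion c.left := IsClosedImmersion.spec_of_surjective _ Ideal.Quotient.mk_surjective
  have hfin := h.finite_killed hE hH hK c hn hc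
  change IsFinite (Spec.map (CommRingCat.ofHom (algebraMap R (A ⧸ T))) ≫ 𝟙 _) at hfin
  rw [Category.comp_id, IsFinite.SpecMap_iff, CommRingCat.hom_ofHom, RingHom.finite_algebraMap] at hfin
  exact hfin

/-- the closed fibre -/
theorem IsExt.isMultType_fibre (h : IsExt i π)
    (hE : ∀ (X : Over (Spec (CommRingCat.of R))) (a b : X ⟶ Bridge.P R A), a * b = b * a)
    (hH : SGA3x.IsMultTypeFT H) (hK : SGA3x.IsMultTypeFT K) [Algebra.FiniteType R A]
    (k : Type u) [Field k] [Algebra R k] : SGA3b.IsMultType k (k ⊗[R] A) := by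
  let j := Spec.map (CommRingCat.ofHom (algebraMap R k))
  let e := Bridge.bcIso R A k
  have : IsMonHom e.hom.hom.hom := e.hom.hom.isMonHom_hom
  have : IsMonHom e.inv.hom.hom := e.inv.hom.isMonHom_hom
  have h' := (h.bc j).of_iso e
  have : LocallyOfFiniteType (Bridge.P k (k ⊗[R] A)).hom := by
    show LocallyOfFiniteType (Spec.map (CommRingCat.ofHom (algebraMap k (k ⊗[R] A))))
    rw [HasRingHomProperty.Spec_iff (P := @LocallyOfFiniteType), CommRingCat.hom_ofHom, RingHom.finiteType_algebraMap]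
    infer_instance
  have : IsAffine (Bridge.P k (k ⊗[R] A)).left := inferInstanceAs (IsAffine (Spec _))
  have hm := IsExt.multType_field (E := Bridge.P k (k ⊗[R] A)) h' (comm_of_iso e (comm_bc j hE)) (MultTypeBC.isMultTypeFT_bc hH j)
    (MultTypeBC.isMultTypeFT_bc hK j)
  exact Bridge.isMultType_of_locally _ (Bridge.locally_of_ft hm)

/-- over a local ring -/
theorem IsExt.isMultType_local [IsLocalRing R] (h : IsExt i π)
    (hE : ∀ (X : Over (Spec (CommRingCat.of R))) (a b : X ⟶ Bridge.P R A), a * b = b * a)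
    (hH : SGA3x.IsMultTypeFT H) (hK : SGA3x.IsMultTypeFT K) : SGA3b.IsMultType R A := by
  obtain ⟨-, hfl, hfp⟩ := h.props hH hK
  change Flat (Spec.map (CommRingCat.ofHom (algebraMap R A))) at hfl
  change LocallyOfFinitePresentation (Spec.map (CommRingCat.ofHom (algebraMap R A))) at hfp
  rw [HasRingHomProperty.Spec_iff (P := @Flat), CommRingCat.hom_ofHom, RingHom.flat_algebraMap_iff] at hfl
  rw [HasRingHomProperty.Spec_iff (P := @LocallyOfFinitePresentation), CommRingCat.hom_ofHom,
    RingHom.finitePresentation_algebraMap] at hfp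
  haveI := hfl
  haveI := hfp
  haveI : Coalgebra.IsCocomm R A := isCocomm_of_comm R A hE
  exact Groth.Agent.S5299.result R A hfp (fun q _ _ => Module.Flat.trans R A (Localization.AtPrime q))
    (h.isMultType_fibre hE hH hK (IsLocalRing.ResidueField R)) fun n hn => h.finite_torsion hE hH hK hn

/-- over an affine base -/
theorem IsExt.isMultType (h : IsExt i π)
    (hE : ∀ (X : Over (Spec (CommRingCat.of R))) (a b : X ⟶ Bridge.P R A), a * b = b * a)
    (hH : SGA3x.IsMultTypeFT H) (hK : SGA3x.IsMultTypeFT K) :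
    SGA3b.IsMultType R A ∧ Algebra.FiniteType R A := by
  obtain ⟨-, -, hfp⟩ := h.props hH hK
  change LocallyOfFinitePresentation (Spec.map (CommRingCat.ofHom (algebraMap R A))) at hfp
  rw [HasRingHomProperty.Spec_iff (P := @LocallyOfFinitePresentation), CommRingCat.hom_ofHom,
    RingHom.finitePresentation_algebraMap] at hfp
  refine ⟨Char.isMultType_of_localizations hfp fun p _ => ?_, inferInstance⟩
  let T := Localization.AtPrime p
  let j := Spec.map (CommRingCat.ofHom (algebraMap R T))
  let e := Bridge.bcIso R A T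
  have : IsMonHom e.hom.hom.hom := e.hom.hom.isMonHom_hom
  have : IsMonHom e.inv.hom.hom := e.inv.hom.isMonHom_hom
  exact IsExt.isMultType_local ((h.bc j).of_iso e) (comm_of_iso e (comm_bc j hE)) (MultTypeBC.isMultTypeFT_bc hH j)
    (MultTypeBC.isMultTypeFT_bc hK j)

end Affine

/-- a commutative extension of groups of multiplicative type over an affine base -/
theorem IsExt.isMultTypeFT_affine {R : Type u} [CommRing R] {E H K : Over (Spec (CommRingCat.of R))}
    [GrpObj E] [GrpObj H] [GrpObj K] {i : H ⟶ E} {π : E ⟶ K} [IsMonHom i] [IsMonHom π] (h : IsExt i π)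
    (hE : ∀ (X : Over (Spec (CommRingCat.of R))) (a b : X ⟶ E), a * b = b * a)
    (hH : SGA3x.IsMultTypeFT H) (hK : SGA3x.IsMultTypeFT K) : SGA3x.IsMultTypeFT E := by
  obtain ⟨haff, -, -⟩ := h.props hH hK
  have : IsAffine E.left := isAffine_of_isAffineHom E.hom
  obtain ⟨A, _, _, ⟨e⟩⟩ := Bridge.exists_hopf (R := R) E
  have : IsMonHom e.hom.hom.hom := e.hom.hom.isMonHom_hom
  have : IsMonHom e.inv.hom.hom := e.inv.hom.isMonHom_hom
  obtain ⟨hA, hft⟩ := IsExt.isMultType (h.of_iso e) (comm_of_iso e hE) hH hK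
  exact Bridge.isMultTypeFT_of_iso e.symm (Bridge.isMultTypeFT_of_isMultType (A := A) hA)

/-- a commutative extension of groups of multiplicative type is of multiplicative type -/
theorem IsExt.isMultTypeFT {S : Scheme.{u}} {E H K : Over S} [GrpObj E] [GrpObj H] [GrpObj K]
    {i : H ⟶ E} {π : E ⟶ K} [IsMonHom i] [IsMonHom π] (h : IsExt i π)
    (hE : ∀ (X : Over S) (a b : X ⟶ E), a * b = b * a)
    (hH : SGA3x.IsMultTypeFT H) (hK : SGA3x.IsMultTypeFT K) : SGA3x.IsMultTypeFT E := by
  refine MultSub.isMultTypeFT_of_local fun s => ?_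
  obtain ⟨_, ⟨U, hU, rfl⟩, hs, -⟩ := S.isBasis_affineOpens.exists_subset_of_mem_open
    (show s ∈ (⊤ : S.Opens) from trivial) (⊤ : S.Opens).2
  have h1 := (h.bc hU.fromSpec).isMultTypeFT_affine (comm_bc hU.fromSpec hE)
    (MultTypeBC.isMultTypeFT_bc hH hU.fromSpec) (MultTypeBC.isMultTypeFT_bc hK hU.fromSpec)
  refine ⟨U, hs, Bridge.isMultTypeFT_of_iso (Grp.mkIso' (ActBC.bcCompIso hU.isoSpec.hom hU.fromSpec E ?_))
    (MultTypeBC.isMultTypeFT_bc h1 hU.isoSpec.hom)⟩
  rw [← hU.isoSpec_inv_ι, Iso.hom_inv_id_assoc]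

end Groth.L25.Extension
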