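import Groth.Agent.L25.Extension.Basic
import Groth.Agent.L25.Central
import Groth.Prelude.Def_RedSub

/-!
# Quotient maps by subgroups that are quasi-compact over the base are quasi-compact
-/

set_option autoImplicit false
universe u

open CategoryTheory CategoryTheory.Limits MonoidalCategory CartesianMonoidalCategory
open AlgebraicGeometry
open scoped MonObj

set_option backward.isDefEq.respectTransparency.types false

noncomputable section

namespace Groth.L25.Extension

/-- a flat finitely presented surjection with quasi-compact self product is quasi-compact -/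
theorem quasiCompact_of_selfProduct {P B : Scheme.{u}} (f : P ⟶ B) [Flat f] [LocallyOfFinitePresentation f]
    [Surjective f] (h : QuasiCompact (pullback.fst f f)) : QuasiCompact f := by
  refine quasiCompact_iff_forall_isAffineOpen.2 fun V hV => ?_
  have hop : IsOpenMap f.base := f.isOpenMap
  choose D hDaff hxD hDV using fun x : (f ⁻¹ᵁ V : P.Opens) => P.isBasis_affineOpens.exists_subset_of_mem_open
    x.2 (f ⁻¹ᵁ V).2
  choose D' hD' hDD using fun x => hDaff x
  obtain ⟨t, ht⟩ := hV.isCompact.elim_finite_subcover (fun x => f.base '' D x)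
    (fun x => hop _ (by rw [← hDD x]; exact (D' x).2))
    (fun y hy => by
      obtain ⟨x, rfl⟩ := f.surjective y
      exact Set.mem_iUnion.2 ⟨⟨x, hy⟩, x, hxD ⟨x, hy⟩, rfl⟩)
  have hW : IsCompact (⋃ x ∈ t, D x) := t.isCompact_biUnion fun x _ => by
    rw [← hDD x]; exact (hD' x).isCompact
  have hpre : IsCompact ((pullback.fst f f).base ⁻¹' (⋃ x ∈ t, D x)) :=
    QuasiCompact.isCompact_preimage _ (isOpen_biUnion fun x _ => by rw [← hDD x]; exact (D' x).2) hW
  have e : (f.base ⁻¹' (V : Set B)) = (pullback.snd f f).base '' ((pullback.fst f f).base ⁻¹' (⋃ x ∈ t, D x)) := by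
    ext z
    constructor
    · intro hz
      obtain ⟨x, hx, y, hy, hyz⟩ := Set.mem_iUnion₂.1 (ht hz)
      obtain ⟨w, hw1, hw2⟩ := Scheme.Pullback.exists_preimage_pullback y z hyz
      refine ⟨w, ?_, hw2⟩
      rw [Set.mem_preimage, hw1]
      exact Set.mem_iUnion₂.2 ⟨x, hx, hy⟩
    · rintro ⟨w, hw, rfl⟩
      obtain ⟨x, -, hwx⟩ := Set.mem_iUnion₂.1 hw
      have := hDV x hwx
      rw [Set.mem_preimage, ← Scheme.Hom.comp_apply, ← pullback.condition, Scheme.Hom.comp_apply]
      exact this
  rw [Scheme.Hom.coe_preimage, e]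
  exact hpre.image (pullback.snd f f).continuous

variable {S : Scheme.{u}} {G H Q : Over S} [GrpObj G] [GrpObj Q]

omit [GrpObj Q] in
/-- the multiplication by the subgroup on points -/
theorem whiskerLeft_mul (i : H ⟶ G) {X : Over S} (x : X ⟶ G ⊗ H) :
    x ≫ (G ◁ i) ≫ μ[G] = (x ≫ fst G H) * (x ≫ snd G H ≫ i) := by
  have e : x ≫ (G ◁ i) = lift (x ≫ fst G H) (x ≫ snd G H ≫ i) := by
    apply hom_ext <;> simp
  rw [← Category.assoc, e]
  rfl

omit [GrpObj Q] in
/-- quotient maps by subgroups that are quasi-compact over the base are coverings -/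
theorem cov_of_isQuotient {i : H ⟶ G} {q : G ⟶ Q} (hq : RedSub.IsQuotient i q) [QuasiCompact H.hom] :
    Covers.Cov q := by
  obtain ⟨hsurj, hflat, hlfp, hpb⟩ := hq
  have : QuasiCompact (fst G H).left := MorphismProperty.of_isPullback
    (show IsPullback (snd G H).left (fst G H).left H.hom G.hom from (IsPullback.of_hasPullback G.hom H.hom).flip)
    ‹QuasiCompact H.hom›
  have hs := hpb.map (Over.forget S)
  have : QuasiCompact (pullback.fst q.left q.left) := by
    have e : pullback.fst q.left q.left = hs.isoPullback.inv ≫ (fst G H).left := hs.isoPullback_inv_fst.symm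
    rw [e]
    exact (MorphismProperty.cancel_left_of_respectsIso @QuasiCompact _ _).2 ‹_›
  exact ⟨⟨hsurj, hflat⟩, quasiCompact_of_selfProduct q.left this⟩

/-- quotient maps are extensions of their base by the subgroup -/
theorem IsExt.of_isQuotient {i : H ⟶ G} [Mono i] {q : G ⟶ Q} [IsMonHom q] (hq : RedSub.IsQuotient i q)
    (hc : i ≫ q = 1) [QuasiCompact H.hom] : IsExt i q where
  mono := inferInstance
  comp := hc
  ker X a ha := by
    obtain ⟨x, hx1, hx2⟩ : ∃ x : X ⟶ G ⊗ H, x ≫ fst G H = 1 ∧ x ≫ (G ◁ i) ≫ μ[G] = a :=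
      ⟨hq.2.2.2.lift 1 a (by rw [MonObj.one_comp, ha]), hq.2.2.2.lift_fst _ _ _, hq.2.2.2.lift_snd _ _ _⟩
    refine ⟨x ≫ snd G H, ?_⟩
    rw [← hx2, whiskerLeft_mul, ← Category.assoc, hx1, _root_.one_mul, Category.assoc]
  cov := cov_of_isQuotient hq

omit [GrpObj Q] in
/-- the subgroup is killed by the quotient map -/
theorem comp_eq_of_isQuotient [GrpObj H] [GrpObj Q] {i : H ⟶ G} [IsMonHom i] {q : G ⟶ Q} [IsMonHom q]
    (hq : RedSub.IsQuotient i q) : i ≫ q = 1 := by
  have h : lift (1 : H ⟶ G) (𝟙 H) ≫ fst G H ≫ q = lift (1 : H ⟶ G) (𝟙 H) ≫ ((G ◁ i) ≫ μ[G]) ≫ q := by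
    rw [hq.2.2.2.w]
  rw [← Category.assoc, ← Category.assoc, lift_fst, whiskerLeft_mul, lift_fst, lift_snd_assoc, Category.id_comp,
    _root_.one_mul, MonObj.one_comp] at h
  exact h.symm

end Groth.L25.Extension
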