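import Groth.Agent.L25.Extension.Basic
import Groth.Agent.L25.Descent.CentralHom
import Groth.Agent.L25.TrivLocus
import Groth.Agent.L25.MultTypeBC
import Groth.Agent.L25.Central

/-!
# Families of homomorphisms between groups of multiplicative type and commutators
-/

set_option autoImplicit false
universe u

open CategoryTheory CategoryTheory.Limits MonoidalCategory CartesianMonoidalCategory
open AlgebraicGeometry
open scoped MonObj

set_option backward.isDefEq.respectTransparency.types false

noncomputable section

namespace Groth.L25.Extension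

variable {S : Scheme.{u}} {K H T : Over S} [GrpObj K] [GrpObj H]

/-- where a family of homomorphisms between groups of multiplicative type is trivial -/
theorem exists_locus (hK : SGA3x.IsMultTypeFT K) (hH : SGA3x.IsMultTypeFT H) (ψ : K ⊗ T ⟶ H)
    (hψ : HomSmooth.MulOn ψ) :
    ∃ U : T.left.Opens, IsClosed (U : Set T.left) ∧
      (∀ (X : Over S) (a : X ⟶ K) (t : X ⟶ T), Set.range t.left ⊆ (U : Set T.left) → lift a t ≫ ψ = 1) ∧
      ∀ x : T.left, (∀ (X : Over S) (a : X ⟶ K) (t : X ⟶ T) (w : X.left ⟶ Spec (T.left.residueField x)),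
        w ≫ T.left.fromSpecResidueField x = t.left → lift a t ≫ ψ = 1) → x ∈ U := by
  let c : T.left ⟶ S := T.hom
  let p : Over.mk c ⟶ T := Over.homMk (𝟙 T.left) (Category.id_comp _)
  let u := Descent.famHom ψ c p
  have : IsMonHom u := Descent.isMonHom_famHom ψ hψ c p
  have hHc := MultTypeBC.isMultTypeFT_bc hH c
  have : IsAffineHom (Red.bc c H).hom := Central.isAffineHom_of_multTypeFT hHc
  obtain ⟨U, hUc, hUiff, hU1⟩ := TrivLocus.main (MultTypeBC.isMultTypeFT_bc hK c)
    (Or.inr ⟨Locus.lfp_of_multTypeFT hHc, inferInstance, inferInstance⟩) u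
  have htr : ∀ {P : Scheme.{u}} (ξ : P ⟶ T.left), TrivLocus.Triv u ξ ↔
      ∀ (X : Over S) (a : X ⟶ K) (t : X ⟶ T) (w : X.left ⟶ P), w ≫ ξ = t.left → lift a t ≫ ψ = 1 := by
    intro P ξ
    constructor
    · intro h X a t w hw
      let Y : Over T.left := Over.mk t.left
      let cY : Over.mk (Y.hom ≫ c) ⟶ X := Over.homMk (𝟙 X.left) ((Category.id_comp _).trans (Over.w t).symm)
      have : IsIso cY.left := inferInstanceAs (IsIso (𝟙 X.left))
      have : IsIso ((Over.forget _).map cY) := this
      have : IsIso cY := isIso_of_reflects_iso _ (Over.forget _)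
      have h1 := congrArg (NilAction.toBase c) (h Y (Over.homMk w hw) (NilAction.ofBase c (cY ≫ a)))
      rw [Descent.toBase_famHom, NilAction.toBase_ofBase, NilAction.toBase_one] at h1
      rw [← cancel_epi cY, comp_lift_assoc, MonObj.comp_one,
        show cY ≫ t = Descent.ptY c Y ≫ p from
          Over.OverMorphism.ext ((Category.id_comp _).trans (Category.comp_id _).symm), h1]
    · intro h Y q g
      refine (toBase_eq_one_iff c _).1 ?_
      rw [Descent.toBase_famHom]
      exact h _ (NilAction.toBase c g) (Descent.ptY c Y ≫ p) q.left ((Over.w q).trans (Category.comp_id _).symm)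
  refine ⟨U, hUc, fun X a t ht => ?_, fun x hx => ?_⟩
  · refine (htr U.ι).1 ((TrivLocus.triv_iff_map u _).2 hU1) X a t (IsOpenImmersion.lift U.ι t.left ?_)
      (IsOpenImmersion.lift_fac _ _ _)
    rw [Scheme.Opens.range_ι]
    exact ht
  · exact (hUiff x).2 ((TrivLocus.triv_iff_map u _).1 ((htr _).2 hx))

/-- a family of homomorphisms between groups of multiplicative type is trivial if it is so on fibres,
or at a section in connected fibres -/
theorem famOne (hK : SGA3x.IsMultTypeFT K) (hH : SGA3x.IsMultTypeFT H) (ψ : K ⊗ T ⟶ H)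
    (hψ : HomSmooth.MulOn ψ)
    (h : ∀ s : S, (∀ (X : Over S) (a : X ⟶ K) (t : X ⟶ T) (w : X.left ⟶ Spec (S.residueField s)),
        w ≫ S.fromSpecResidueField s = X.hom → lift a t ≫ ψ = 1) ∨
      (_root_.IsConnected (T.hom.base ⁻¹' {s}) ∧
        ∃ e : 𝟙_ (Over S) ⟶ T, ∀ (X : Over S) (a : X ⟶ K), lift a (toUnit X ≫ e) ≫ ψ = 1))
    (X : Over S) (a : X ⟶ K) (t : X ⟶ T) : lift a t ≫ ψ = 1 := by
  obtain ⟨U, hUc, hU, hmem⟩ := exists_locus hK hH ψ hψ
  suffices ∀ x : T.left, x ∈ U from hU X a t fun _ _ => this _
  intro x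
  rcases h (T.hom x) with hf | ⟨hconn, e, he⟩
  · refine hmem x fun X a t w hw =>
      hf X a t (w ≫ Spec.map (T.hom.residueFieldMap x)) ?_
    rw [Category.assoc, Scheme.Hom.SpecMap_residueFieldMap_fromSpecResidueField, ← Category.assoc, hw, Over.w t]
  · let s := T.hom x
    have hes : T.hom (e.left s) = s := congrArg (fun f : S ⟶ S => f s) (Over.w e)
    have heU : e.left s ∈ U := by
      refine hmem _ fun X a t w hw => ?_
      let ζ := Spec.map (e.left.residueFieldMap s)
      have : Surjective ζ := ⟨fun z => ⟨default, Subsingleton.elim _ _⟩⟩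
      have : Flat ζ := by
        letI : Algebra (T.left.residueField (e.left s)) (S.residueField s) :=
          (e.left.residueFieldMap s).hom.toAlgebra
        show Flat (Spec.map (CommRingCat.ofHom (algebraMap (T.left.residueField (e.left s)) (S.residueField s))))
        rw [HasRingHomProperty.Spec_iff (P := @Flat)]
        exact RingHom.flat_algebraMap_iff.2 inferInstance
      have : QuasiCompact ζ := inferInstance
      let X' : Over S := Over.mk (pullback.fst w ζ ≫ X.hom)
      let c : X' ⟶ X := Over.homMk (pullback.fst w ζ) rfl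
      have hcov : Covers.Cov c := ⟨⟨MorphismProperty.pullback_fst w ζ ‹Surjective ζ›,
        MorphismProperty.pullback_fst w ζ ‹Flat ζ›⟩, MorphismProperty.pullback_fst w ζ ‹QuasiCompact ζ›⟩
      have hid : e.left ≫ T.hom = 𝟙 S := Over.w e
      have hsec : (c ≫ t).left = pullback.snd w ζ ≫ S.fromSpecResidueField s ≫ e.left := by
        show pullback.fst w ζ ≫ t.left = _
        rw [← hw, ← Category.assoc, pullback.condition, Category.assoc,
          Scheme.Hom.SpecMap_residueFieldMap_fromSpecResidueField]
        rfl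
      have ht : c ≫ t = toUnit X' ≫ e := by
        apply Over.OverMorphism.ext
        have h1 : pullback.snd w ζ ≫ S.fromSpecResidueField s = X'.hom := by
          rw [← Over.w (c ≫ t), hsec, Category.assoc, Category.assoc, hid, Category.comp_id]
        show (c ≫ t).left = X'.hom ≫ e.left
        rw [hsec, ← Category.assoc, h1]
      have := hcov.epi
      rw [← cancel_epi c, comp_lift_assoc, ht, MonObj.comp_one]
      exact he X' _
    exact hconn.isPreconnected.subset_isClopen ⟨hUc, U.2⟩ ⟨_, hes, heU⟩ (show x ∈ _ from rfl)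

end Groth.L25.Extension
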