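import Groth.Agent.L25.Extension.Basic
import Groth.Agent.L25.MultType.Torsion
import Groth.Agent.L25.TorusTorsion
import Groth.Agent.L25.TrivLocus
import Groth.Agent.L25.FpqcLocal
import Groth.Agent.L25.Central
import Groth.Agent.L23.AffineMor
import Groth.Prelude.Def_SGA3x

/-!
# The power maps of groups of multiplicative type are finite
-/

set_option autoImplicit false
universe u

open CategoryTheory CategoryTheory.Limits MonoidalCategory CartesianMonoidalCategory
open AlgebraicGeometry WithConv
open scoped MonObj

set_option backward.isDefEq.respectTransparency.types false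

noncomputable section

namespace Groth.L25.Extension

/-- multiplication by a nonnegative integer -/
abbrev nMul (M : Type) [AddCommGroup M] (n : ℕ) : M →+ M := nsmulAddMonoidHom n

theorem diag_pow (R : Type u) [CommRing R] (M : Type) [AddCommGroup M] (n : ℕ) :
    (𝟙 (Red.diag R M)) ^ n = Red.diagMap R (nMul M n) := by
  let A := MonoidAlgebra R (Multiplicative M)
  have h1 : Spec.mapMulEquiv (R := R) (toConv (AlgHom.id R A)) = 𝟙 (Red.diag R M) :=
    Over.OverMorphism.ext (Spec.map_id _)
  rw [← h1, ← map_pow]
  apply Over.OverMorphism.ext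
  show Spec.map _ = Spec.map _
  congr 2
  refine congrArg AlgHom.toRingHom ?_
  refine MonoidAlgebra.algHom_ext (fun m => ?_) (Subsingleton.elim _ _)
  show SGA3b.powConv R A n (MonoidAlgebra.single m 1) = _
  rw [MultType.powConv_groupLike (MonoidAlgebra.isGroupLikeElem_single_one m), MonoidAlgebra.single_pow, one_pow]
  change _ = MonoidAlgebra.mapDomain _ _
  rw [MonoidAlgebra.mapDomain_single]
  rfl

theorem finite_diagMap (R : Type u) [CommRing R] (M : Type) [AddCommGroup M] [AddGroup.FG M] {n : ℕ}
    (hn : 0 < n) : IsFinite (Red.diagMap R (nMul M n)).left := by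
  let A := MonoidAlgebra R (Multiplicative M)
  let φ : A →ₐ[R] A := MonoidAlgebra.mapDomainAlgHom R R (AddMonoidHom.toMultiplicative (nMul M n))
  show IsFinite (Spec.map (CommRingCat.ofHom φ.toRingHom))
  rw [IsFinite.SpecMap_iff, CommRingCat.hom_ofHom]
  have : Monoid.FG (Multiplicative M) :=
    AddMonoid.fg_iff_mul_fg.1 (AddGroup.fg_iff_addMonoid_fg.1 ‹AddGroup.FG M›)
  refine RingHom.IsIntegral.to_finite (fun a => ?_) ?_
  · induction a using MonoidAlgebra.induction_linear with
    | zero => exact RingHom.isIntegralElem_zero _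
    | add x y hx hy => exact hx.add _ hy
    | single m r =>
      have hm : φ.toRingHom.IsIntegralElem (MonoidAlgebra.single m (1 : R) : A) := by
        letI : Algebra A A := φ.toRingHom.toAlgebra
        show IsIntegral A (MonoidAlgebra.single m (1 : R) : A)
        refine IsIntegral.of_pow hn ?_
        have e : (MonoidAlgebra.single m (1 : R) : A) ^ n = algebraMap A A (MonoidAlgebra.single m 1) := by
          rw [MonoidAlgebra.single_pow, one_pow]
          change _ = MonoidAlgebra.mapDomain _ _
          rw [MonoidAlgebra.mapDomain_single]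
          rfl
        rw [e]
        exact isIntegral_algebraMap
      have hr : (MonoidAlgebra.single m r : A) = φ (algebraMap R A r) * MonoidAlgebra.single m 1 := by
        rw [AlgHom.commutes, ← Algebra.smul_def, MonoidAlgebra.smul_single, smul_eq_mul, mul_one]
      rw [hr]
      exact (RingHom.isIntegralElem_map _).mul _ hm
  · exact RingHom.FiniteType.of_comp_finiteType (f := algebraMap R A) (by
      rw [show φ.toRingHom.comp (algebraMap R A) = algebraMap R A from φ.comp_algebraMap]; exact RingHom.finiteType_algebraMap.2 inferInstance)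

variable {S : Scheme.{u}} {H : Over S} [GrpObj H] {P : Scheme.{u}} (j : P ⟶ S)

/-- base change respects powers -/
theorem map_pow' {X : Over S} (a : X ⟶ H) (n : ℕ) :
    (Over.pullback j).map (a ^ n) = ((Over.pullback j).map a) ^ n := by
  let pm : (X ⟶ H) →* (Red.bc j X ⟶ Red.bc j H) :=
    MonoidHom.mk' (fun a => (Over.pullback j).map a) fun a b => by
      have e : ∀ c : X ⟶ H, NilAction.toBase j ((Over.pullback j).map c) =
          NilAction.toBase j (𝟙 (Red.bc j X)) ≫ c := fun c => by
        rw [← Locus.toBase_map, Category.id_comp]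
      rw [← NilAction.ofBase_toBase j ((Over.pullback j).map a * (Over.pullback j).map b), NilAction.toBase_mul,
        e, e, ← MonObj.comp_mul, ← e, NilAction.ofBase_toBase]
  exact map_pow pm a n

/-- the power maps of groups of multiplicative type are finite -/
theorem finite_pow (hH : SGA3x.IsMultTypeFT H) {n : ℕ} (hn : 0 < n) : IsFinite ((𝟙 H) ^ n : H ⟶ H).left := by
  obtain ⟨S', f, hflat, hsurj, hqc, hloc⟩ := hH
  refine FpqcLocal.of_fpqc (P := @IsFinite) ((𝟙 H) ^ n : H ⟶ H).left H.hom f hqc fun s => ?_
  obtain ⟨W, hsW, M, instM, hfg, ⟨e⟩⟩ := hloc s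
  letI := instM
  haveI := hfg
  refine ⟨W, hsW, ?_⟩
  let d := W.ι ≫ f
  let pn : H ⟶ H := (𝟙 H) ^ n
  have hsq : IsPullback ((Over.pullback d).map pn).left (pullback.fst H.hom d) (pullback.fst H.hom d) pn.left := by
    refine IsPullback.of_right ?_ (pullback.lift_fst _ _ _) (IsPullback.of_hasPullback H.hom d).flip
    show IsPullback (((Over.pullback d).map pn).left ≫ (Red.bc d H).hom) _ _ (pn.left ≫ H.hom)
    rw [Over.w, Over.w]
    exact (IsPullback.of_hasPullback H.hom d).flip
  have hDS : IsFinite ((𝟙 (Red.DS W.toScheme M)) ^ n : Red.DS W.toScheme M ⟶ _).left := by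
    have h1 := map_pow' (specULiftZIsTerminal.from W.toScheme) (𝟙 (Red.diag (ULift.{u} ℤ) M)) n
    rw [CategoryTheory.Functor.map_id, diag_pow] at h1
    rw [show (𝟙 (Red.DS W.toScheme M)) ^ n = _ from h1.symm]
    have hq : IsPullback ((Over.pullback (specULiftZIsTerminal.from W.toScheme)).map
        (Red.diagMap (ULift.{u} ℤ) (nMul M n))).left (pullback.fst _ _) (pullback.fst _ _)
        (Red.diagMap (ULift.{u} ℤ) (nMul M n)).left := by
      refine IsPullback.of_right ?_ (pullback.lift_fst _ _ _) (IsPullback.of_hasPullback _ _).flip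
      show IsPullback (((Over.pullback (specULiftZIsTerminal.from W.toScheme)).map _).left ≫
        (Red.bc (specULiftZIsTerminal.from W.toScheme) (Red.diag (ULift.{u} ℤ) M)).hom) _ _
        ((Red.diagMap (ULift.{u} ℤ) (nMul M n)).left ≫ (Red.diag (ULift.{u} ℤ) M).hom)
      rw [Over.w, Over.w]
      exact (IsPullback.of_hasPullback _ _).flip
    exact MorphismProperty.of_isPullback hq.flip (finite_diagMap (ULift.{u} ℤ) M hn)
  have : IsMonHom e.hom.hom.hom := e.hom.hom.isMonHom_hom
  have : IsMonHom e.inv.hom.hom := e.inv.hom.isMonHom_hom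
  have hee : e.hom.hom.hom ≫ e.inv.hom.hom = 𝟙 _ := congr($(e.hom_inv_id).hom.hom)
  have hee' : e.inv.hom.hom ≫ e.hom.hom.hom = 𝟙 _ := congr($(e.inv_hom_id).hom.hom)
  have : IsIso e.hom.hom.hom.left := inferInstanceAs (IsIso ((Over.forget _).map e.hom.hom.hom))
  have : IsIso e.inv.hom.hom.left := inferInstanceAs (IsIso ((Over.forget _).map e.inv.hom.hom))
  have hbc : ((Over.pullback d).map pn).left =
      e.hom.hom.hom.left ≫ ((𝟙 (Red.DS W.toScheme M)) ^ n : Red.DS W.toScheme M ⟶ _).left ≫ e.inv.hom.hom.left := by
    rw [← Over.comp_left, ← Over.comp_left, MonObj.pow_comp, Category.id_comp, MonObj.comp_pow, hee,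
      map_pow', CategoryTheory.Functor.map_id]
  have hfin : IsFinite ((Over.pullback d).map pn).left := by
    rw [hbc]
    exact (MorphismProperty.cancel_left_of_respectsIso _ _ _).2
      ((MorphismProperty.cancel_right_of_respectsIso _ _ _).2 hDS)
  show IsFinite (pullback.snd pn.left (pullback.fst H.hom d))
  rw [← hsq.flip.isoPullback_inv_snd]
  exact (MorphismProperty.cancel_left_of_respectsIso _ _ _).2 hfin

end Groth.L25.Extension
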